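import Cfsg.Agent.Lib.ONanTI.Geometry
import Cfsg.Agent.Lib.SymDesign.Main
import Mathlib.Combinatorics.Enumerative.DoubleCounting

/-!
# The symmetric design of fixed sets, and the identification

The translates of the fixed set of a non-identity element at a point form a symmetric design, so
the stabiliser of one of them is a subgroup to which the theorem of Ito applies.
-/

set_option autoImplicit false
set_option linter.unusedSectionVars false

namespace Cfsg.Agent.ONanTI

open MulAction Finset
open scoped Pointwise Classical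

variable {G X : Type*} [Group G] [MulAction G X] [Finite G] [Finite X] [FaithfulSMul G X]

namespace Fam

variable (F : Fam G X)

/-- A proper set of points containing the line of any two of its points and meeting every line. -/
structure IsHyp (H : Set X) : Prop where
  sub : ∀ {c d : X}, c ≠ d → c ∈ H → d ∈ H → F.line c d ⊆ H
  meet : ∀ {c d : X}, c ≠ d → ∃ q ∈ F.line c d, q ∈ H
  proper : ∃ p, p ∉ H

variable {F}

theorem IsHyp.smul {H : Set X} (hH : F.IsHyp H) (g : G) : F.IsHyp (g • H) where
  sub := by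
    intro c d hcd hc hd u hu
    rw [Set.mem_smul_set_iff_inv_smul_mem] at hc hd ⊢
    refine hH.sub (fun h => hcd (smul_left_cancel _ h)) hc hd ?_
    exact F.smul_mem_line g⁻¹ hu
  meet := by
    intro c d hcd
    obtain ⟨q, hq, hqH⟩ := hH.meet (c := g⁻¹ • c) (d := g⁻¹ • d)
      (fun h => hcd (smul_left_cancel _ h))
    refine ⟨g • q, ?_, Set.smul_mem_smul_set hqH⟩
    simpa using F.smul_mem_line g hq
  proper := by
    obtain ⟨p, hp⟩ := hH.proper
    exact ⟨g • p, fun h => hp (Set.smul_mem_smul_set_iff.1 h)⟩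

theorem FixLines.isHyp_fixed (hF : F.FixLines) {a : X} {n : G} (hn : n ∈ F.N a) (hn1 : n ≠ 1) :
    F.IsHyp {q | n • q = q} where
  sub := fun hcd hc hd _ hq => hF.fix_line hcd hn hc hd hq
  meet := fun hcd => hF.exists_fixed hcd hn
  proper := by
    by_contra h
    push Not at h
    exact hn1 (FaithfulSMul.eq_of_smul_eq_smul (α := X) fun z => by rw [one_smul]; exact h z)

/-- The lines through a point `p` outside a hyperplane `H` inside a set `S`. -/
theorem IsHyp.count [Fintype X] {H : Set X} (hH : F.IsHyp H) {m : ℕ}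
    (hline : ∀ {c d : X}, c ≠ d → (F.line c d).ncard = m + 1) {S : Set X} {p : X} (hpS : p ∈ S)
    (hpH : p ∉ H) (hS : ∀ {c d : X}, c ≠ d → c ∈ S → d ∈ S → F.line c d ⊆ S) :
    S.ncard = m * (S ∩ H).ncard + 1 := by
  have hne : ∀ q ∈ H, p ≠ q := fun q hq h => hpH (h ▸ hq)
  have hcov : S.toFinset.erase p =
      (S ∩ H).toFinset.biUnion fun q => (F.line p q).toFinset.erase p := by
    ext z
    simp only [Finset.mem_erase, Finset.mem_biUnion, Set.mem_toFinset]
    constructor
    · rintro ⟨hzp, hzS⟩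
      obtain ⟨q, hq, hqH⟩ := hH.meet (Ne.symm hzp)
      refine ⟨q, ⟨hS (Ne.symm hzp) hpS hzS hq, hqH⟩, hzp, ?_⟩
      rw [F.line_eq (Ne.symm hzp) (hne q hqH) (F.left_mem_line _ _) hq]
      exact F.right_mem_line _ _
    · rintro ⟨q, ⟨hqS, hqH⟩, hzp, hz⟩
      exact ⟨hzp, hS (hne q hqH) hpS hqS hz⟩
  have hdisj : ∀ q ∈ (S ∩ H).toFinset, ∀ q' ∈ (S ∩ H).toFinset, q ≠ q' →
      Disjoint ((F.line p q).toFinset.erase p) ((F.line p q').toFinset.erase p) := by
    intro q hq q' hq' hqq
    rw [Finset.disjoint_left]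
    intro z h1 h2
    simp only [Finset.mem_erase, Set.mem_toFinset] at h1 h2 hq hq'
    have he := F.line_eq_of_mem (hne q hq.2) (hne q' hq'.2) h1.1.symm
      (F.left_mem_line _ _) h1.2 (F.left_mem_line _ _) h2.2
    have h3 : F.line q q' = F.line p q :=
      F.line_eq (hne q hq.2) hqq (F.right_mem_line _ _) (he.symm ▸ F.right_mem_line _ _)
    exact hpH (hH.sub hqq hq.2 hq'.2 (h3.symm ▸ F.left_mem_line _ _))
  have h := congrArg Finset.card hcov
  rw [Finset.card_biUnion hdisj, Finset.card_erase_of_mem (Set.mem_toFinset.2 hpS),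
    Finset.sum_const_nat (m := m) fun q hq => ?_, ← Set.ncard_eq_toFinset_card',
    ← Set.ncard_eq_toFinset_card'] at h
  · have : 0 < S.ncard := (Set.ncard_pos (Set.toFinite _)).2 ⟨p, hpS⟩
    rw [mul_comm]
    omega
  · rw [Finset.card_erase_of_mem (Set.mem_toFinset.2 (F.left_mem_line _ _)),
      ← Set.ncard_eq_toFinset_card', hline (hne q (Set.mem_toFinset.1 hq).2), Nat.add_sub_cancel]

/-- The family of translates of a hyperplane has as many members as there are points. -/
theorem IsHyp.card_orbit [Fintype X] {H : Set X} (hH : F.IsHyp H) {m : ℕ} (hm : 2 ≤ m)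
    (hline : ∀ {c d : X}, c ≠ d → (F.line c d).ncard = m + 1) (hpre : IsPretransitive G X)
    {c d : X} (hcd : c ≠ d) :
    (orbit G H).ncard = Nat.card X := by
  let _ := hpre
  set O := (orbit G H).toFinset
  set h := H.ncard
  have hhyp : ∀ K ∈ O, F.IsHyp K := by
    intro K hK
    obtain ⟨g, rfl⟩ := Set.mem_toFinset.1 hK
    exact hH.smul g
  have hsize : ∀ K ∈ O, Fintype.card X = m * K.ncard + 1 := by
    intro K hK
    obtain ⟨p, hp⟩ := (hhyp K hK).proper
    have := (hhyp K hK).count hline (Set.mem_univ p) hp fun _ _ _ => Set.subset_univ _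
    rwa [Set.univ_inter, Set.ncard_univ, Nat.card_eq_fintype_card] at this
  have hHO : H ∈ O := Set.mem_toFinset.2 (mem_orbit_self _)
  have hv := hsize H hHO
  have hh : ∀ K ∈ O, K.ncard = h := fun K hK =>
    Nat.eq_of_mul_eq_mul_left (by omega) (Nat.add_right_cancel ((hsize K hK).symm.trans hv))
  have hmu : ∀ K ∈ O, K ≠ H → m * (H ∩ K).ncard + 1 = h := by
    intro K hK hne
    obtain ⟨p, hpH, hpK⟩ : ∃ p, p ∈ H ∧ p ∉ K := by
      by_contra hall
      push Not at hall
      exact hne (Set.eq_of_subset_of_ncard_le hall (hh K hK).le (Set.toFinite _)).symm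
    exact ((hhyp K hK).count hline hpH hpK hH.sub).symm
  set deg : X → ℕ := fun a => (O.filter fun K => a ∈ K).card
  have hdeg : ∀ a a' : X, deg a = deg a' := by
    have hle : ∀ (g : G) (a : X), deg a ≤ deg (g • a) := by
      intro g a
      refine Finset.card_le_card_of_injOn (fun K => g • K) (fun K hK => ?_)
        (fun K _ K' _ he => smul_left_cancel g he)
      have hK' : K ∈ O ∧ a ∈ K := Finset.mem_filter.1 hK
      refine Finset.mem_filter.2 ⟨Set.mem_toFinset.2 ?_, Set.smul_mem_smul_set hK'.2⟩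
      obtain ⟨g', hg'⟩ := Set.mem_toFinset.1 hK'.1
      exact ⟨g * g', by simp only [← hg', mul_smul]⟩
    intro a a'
    obtain ⟨g, rfl⟩ := exists_smul_eq G a a'
    exact (hle g a).antisymm (by simpa using hle g⁻¹ (g • a))
  obtain ⟨a₀, -⟩ := hH.proper
  set β := deg a₀
  have hdouble : ∀ T : Finset X, ∑ K ∈ O, (T.filter fun a => a ∈ K).card = T.card * β := by
    intro T
    have := Finset.sum_card_bipartiteAbove_eq_sum_card_bipartiteBelow
      (s := O) (t := T) (fun K a => a ∈ K)
    simp only [Finset.bipartiteAbove, Finset.bipartiteBelow] at this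
    rw [this, Finset.sum_const_nat fun a _ => hdeg a a₀]
  have h1 : O.card * h = Fintype.card X * β := by
    have := hdouble Finset.univ
    rw [Finset.card_univ, Finset.sum_const_nat (m := h) fun K hK => ?_] at this
    · exact this
    · rw [← hh K hK, Set.ncard_eq_toFinset_card']
      congr 1
      ext; simp
  obtain ⟨μ, hμ⟩ : ∃ μ, m * μ + 1 = h := by
    by_contra hall
    push Not at hall
    have hone : ∀ K ∈ O, K = H := fun K hK => by_contra fun hne => hall _ (hmu K hK hne)
    obtain ⟨q, -, hq⟩ := hH.meet hcd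
    obtain ⟨p, hp⟩ := hH.proper
    obtain ⟨g, hg⟩ := exists_smul_eq G q p
    have := hone (g • H) (Set.mem_toFinset.2 (mem_orbit _ _))
    exact hp (this ▸ hg ▸ Set.smul_mem_smul_set hq)
  have h2 : h + (O.card - 1) * μ = h * β := by
    have := hdouble H.toFinset
    rw [← Set.ncard_eq_toFinset_card', ← Finset.sum_erase_add _ _ hHO,
      Finset.sum_const_nat (m := μ) fun K hK => ?_, Finset.card_erase_of_mem hHO,
      show (H.toFinset.filter fun a => a ∈ H).card = h from ?_, add_comm] at this
    · exact this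
    · rw [show h = H.ncard from rfl, Set.ncard_eq_toFinset_card']
      congr 1
      ext; simp
    · obtain ⟨hne, hK'⟩ := Finset.mem_erase.1 hK
      refine Nat.eq_of_mul_eq_mul_left (show 0 < m by omega) ?_
      refine Nat.add_right_cancel (m := 1) ?_
      rw [hμ, ← hmu K hK' hne, Set.ncard_eq_toFinset_card']
      congr 3
      ext; simp
  have hb : 0 < O.card := Finset.card_pos.2 ⟨H, hHO⟩
  have hhpos : 0 < h := by omega
  have hv' : Fintype.card X = m * h + 1 := hv
  rw [Set.ncard_eq_toFinset_card', Nat.card_eq_fintype_card]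
  show O.card = Fintype.card X
  zify [hb] at h1 h2 hv' hμ ⊢
  have e : ((h : ℤ) - β) * (m * h - h + 1) = 0 := by
    linear_combination ((h : ℤ) * m) * h2 - (μ : ℤ) * m * h1 -
      ((β : ℤ) * (m * h + 1) - h) * hμ - (μ : ℤ) * m * β * hv'
  rcases mul_eq_zero.1 e with e | e
  · have h3 : (O.card : ℤ) * h = Fintype.card X * h := by
      rw [h1, show (β : ℤ) = h by linarith]
    exact mul_right_cancel₀ (by positivity) h3
  · exfalso
    have h4 : (2 : ℤ) ≤ m := by exact_mod_cast hm
    nlinarith [mul_nonneg (show (0 : ℤ) ≤ m - 2 by linarith) (show (0 : ℤ) ≤ h by positivity),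
      show (0 : ℤ) ≤ h by positivity]

/-- The socle is a projective special linear group. -/
theorem FixLines.main (hF : F.FixLines) (h2 : IsMultiplyPretransitive G X 2) {a b : X}
    (hab : a ≠ b) :
    ∃ (k : ℕ) (K : Type) (_ : Field K) (_ : Fintype K), 2 ≤ k ∧
      Nat.card X = (Fintype.card K ^ (k + 1) - 1) / (Fintype.card K - 1) ∧
      ∃ L : Subgroup G, L.Normal ∧
        Nonempty (L ≃* Matrix.ProjectiveSpecialLinearGroup (Fin (k + 1)) K) ∧
        Subgroup.centralizer (L : Set G) = ⊥ := by
  let _ := Fintype.ofFinite X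
  obtain ⟨n, hn, hn1, hnb⟩ := F.nsr hab
  set H : Set X := {q | n • q = q}
  have hH : F.IsHyp H := hF.isHyp_fixed hn hn1
  set m := (F.O a b).ncard
  have hm : 2 ≤ m := F.two_le_ncard_O hab
  have hline : ∀ {c d : X}, c ≠ d → (F.line c d).ncard = m + 1 := fun h => by
    rw [hF.card_line h, F.ncard_O h hab]
  have : Nonempty X := ⟨a⟩
  have hpre : IsPretransitive G X := MulAction.isPretransitive_of_is_two_pretransitive
  let S := stabilizer G H
  have hidx : S.index = Nat.card X := by
    rw [index_stabilizer]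
    exact hH.card_orbit hm hline hpre hab
  have hSH : ∀ g ∈ S, ∀ q, q ∈ H → g • q ∈ H := by
    intro g hg q hq
    have he : g • H = H := hg
    exact he ▸ Set.smul_mem_smul_set hq
  have hnS : n ∈ S := by
    show n • H = H
    ext q
    rw [Set.mem_smul_set_iff_inv_smul_mem]
    constructor
    · intro hq
      have hq' : n • n⁻¹ • q = n⁻¹ • q := hq
      show n • q = q
      rw [smul_inv_smul] at hq'
      exact (congrArg (n • ·) hq').trans (smul_inv_smul n q)
    · intro hq
      show n • n⁻¹ • q = n⁻¹ • q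
      rw [smul_inv_smul, eq_inv_smul_iff]
      exact hq
  obtain ⟨p, hp⟩ := hH.proper
  have hnt : ¬ IsPretransitive S X := by
    intro ht
    obtain ⟨⟨g, hg⟩, hgp⟩ := ht.exists_smul_eq a p
    exact hp (hgp ▸ hSH g hg a (F.fix hn))
  have hfix : ∀ z : X, ∃ g : S, g • z ≠ z := by
    intro z
    by_contra hall
    push Not at hall
    have hle : S ≤ stabilizer G z := fun g hg => hall ⟨g, hg⟩
    have heq : stabilizer G z = S := by
      refine (Subgroup.eq_of_le_of_card_ge hle ?_).symm
      have h1 := S.card_mul_index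
      have h3 := (stabilizer G z).card_mul_index
      rw [index_stabilizer_of_transitive, ← h1, hidx] at h3
      exact (Nat.eq_of_mul_eq_mul_right (Nat.card_pos) h3).le
    obtain ⟨q, hq, hqz⟩ : ∃ q ∈ H, q ≠ z := by
      rcases eq_or_ne a z with h | h
      · exact ⟨b, hnb, fun e => hab (h.trans e.symm)⟩
      · exact ⟨a, F.fix hn, h⟩
    have hall' : ∀ r, r ≠ z → r ∈ H := by
      intro r hr
      obtain ⟨g, hgz, hgq⟩ := F.two (Ne.symm hqz) (Ne.symm hr)
      exact hgq ▸ hSH g (heq ▸ hgz) q hq
    have hpz : p = z := by_contra fun h => hp (hall' p h)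
    obtain ⟨r, hr, hrH⟩ : ∃ r, r ∈ F.line p q ∧ r ≠ p ∧ r ≠ q := by
      have hpq : p ≠ q := fun h => hqz (h ▸ hpz)
      by_contra hcon
      have hsub : F.line p q ⊆ {p, q} := fun r hr => by
        by_contra h
        simp only [Set.mem_insert_iff, Set.mem_singleton_iff, not_or] at h
        exact hcon ⟨r, hr, h⟩
      have := Set.ncard_le_ncard hsub (Set.toFinite _)
      rw [hline hpq, Set.ncard_pair hpq] at this
      omega
    have hpq : p ≠ q := fun h => hqz (h ▸ hpz)
    have hrH' : r ∈ H := hall' r (hpz ▸ hrH.1)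
    refine hp (hH.sub hrH.2 hrH' hq ?_)
    rw [F.line_eq hpq hrH.2 hr (F.right_mem_line _ _)]
    exact F.left_mem_line _ _
  refine SymDesign.main h2 S hidx hnt hfix ⟨a, ⟨n, hnS⟩, ?_, ?_⟩
  · exact fun h => hn1 (congrArg Subtype.val h)
  · rintro _ ⟨⟨g, hg⟩, rfl⟩
    exact hSH g hg a (F.fix hn)

end Fam

end Cfsg.Agent.ONanTI
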