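import Cfsg.Agent.Lib.ONanTI.Family
import Cfsg.Agent.Lib.ONanTI.Design

/-!
# An abelian normal subgroup of a point stabiliser which is not semiregular
-/

set_option autoImplicit false
set_option linter.unusedSectionVars false

namespace Cfsg.Agent.ONanTI

open MulAction

variable {G X : Type*} [Group G] [MulAction G X] [Finite G] [Finite X] [FaithfulSMul G X]

theorem abelian_main (h2 : IsMultiplyPretransitive G X 2) {x : X} {N : Subgroup G}
    (hNle : N ≤ stabilizer G x) (hNn : ∀ g ∈ stabilizer G x, ∀ n ∈ N, g * n * g⁻¹ ∈ N)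
    (hab : ∀ g ∈ N, ∀ h ∈ N, g * h = h * g)
    (hnsr : ∃ n ∈ N, n ≠ 1 ∧ ∃ y : X, y ≠ x ∧ n • y = y) :
    ∃ (k : ℕ) (K : Type) (_ : Field K) (_ : Fintype K), 2 ≤ k ∧
      Nat.card X = (Fintype.card K ^ (k + 1) - 1) / (Fintype.card K - 1) ∧
      ∃ L : Subgroup G, L.Normal ∧
        Nonempty (L ≃* Matrix.ProjectiveSpecialLinearGroup (Fin (k + 1)) K) ∧
        Subgroup.centralizer (L : Set G) = ⊥ := by
  haveI : IsPretransitive G X := MulAction.isPretransitive_of_is_two_pretransitive
  let F := famOfNormal h2 hNle hNn hnsr fun h => conjN_disjoint h2 hNle hNn hab h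
  have hF : F.FixLines := by
    intro a b _ n hn h hh
    rw [← mul_smul, conjN_comm hNn hab hh.1 hn, mul_smul, show h • b = b from hh.2]
  obtain ⟨_, _, _, y, hy, _⟩ := hnsr
  exact hF.main h2 hy.symm

end Cfsg.Agent.ONanTI
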