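import Cfsg.Agent.Lib.ONanTI.Geometry

/-!
# The family of conjugates of a normal subgroup of a point stabiliser

In a 2-transitive group a normal subgroup `N` of a point stabiliser gives a family `conjN`; if
`N` is abelian any two members meet trivially.
-/

set_option autoImplicit false
set_option linter.unusedSectionVars false

namespace Cfsg.Agent.ONanTI

open MulAction

variable {G X : Type*} [Group G] [MulAction G X] [Finite G] [Finite X] [FaithfulSMul G X]
variable [IsPretransitive G X] {x : X} {N : Subgroup G}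

/-- The conjugate of `N` attached to the point `a`. -/
noncomputable def conjN (x : X) (N : Subgroup G) (a : X) : Subgroup G :=
  N.map (MulAut.conj (exists_smul_eq G x a).choose).toMonoidHom

theorem mem_conjN {a : X} {g h : G} (hNn : ∀ g ∈ stabilizer G x, ∀ n ∈ N, g * n * g⁻¹ ∈ N)
    (hg : g • x = a) : h ∈ conjN x N a ↔ g⁻¹ * h * g ∈ N := by
  set k := (exists_smul_eq G x a).choose
  have hk : k • x = a := (exists_smul_eq G x a).choose_spec
  have hs : g⁻¹ * k ∈ stabilizer G x := by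
    show (g⁻¹ * k) • x = x
    rw [mul_smul, hk, ← hg, inv_smul_smul]
  constructor
  · rintro ⟨n, hn, rfl⟩
    have := hNn _ hs n hn
    simpa [k, mul_assoc] using this
  · intro hh
    refine ⟨(g⁻¹ * k)⁻¹ * (g⁻¹ * h * g) * ((g⁻¹ * k)⁻¹)⁻¹, hNn _ (inv_mem hs) _ hh, ?_⟩
    simp [k, mul_assoc]

theorem conjN_le (hNle : N ≤ stabilizer G x) (a : X) : conjN x N a ≤ stabilizer G a := by
  rintro _ ⟨n, hn, rfl⟩
  have hk : (exists_smul_eq G x a).choose • x = a := (exists_smul_eq G x a).choose_spec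
  show ((exists_smul_eq G x a).choose * n * (exists_smul_eq G x a).choose⁻¹) • a = a
  rw [mul_smul, mul_smul, inv_smul_eq_iff.2 hk.symm, show n • x = x from hNle hn, hk]

theorem conjN_self (hNn : ∀ g ∈ stabilizer G x, ∀ n ∈ N, g * n * g⁻¹ ∈ N) {h : G} :
    h ∈ conjN x N x ↔ h ∈ N := by
  simpa using mem_conjN (h := h) hNn (one_smul G x)

theorem conjN_conj (hNn : ∀ g ∈ stabilizer G x, ∀ n ∈ N, g * n * g⁻¹ ∈ N) (g : G) (a : X) (h : G)
    (hh : h ∈ conjN x N a) : g * h * g⁻¹ ∈ conjN x N (g • a) := by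
  obtain ⟨k, hk⟩ := exists_smul_eq G x a
  rw [mem_conjN hNn hk] at hh
  rw [mem_conjN hNn (show (g * k) • x = g • a by rw [mul_smul, hk])]
  simpa [mul_assoc] using hh

theorem conjN_comm (hNn : ∀ g ∈ stabilizer G x, ∀ n ∈ N, g * n * g⁻¹ ∈ N)
    (hab : ∀ g ∈ N, ∀ h ∈ N, g * h = h * g) {a : X} {g h : G} (hg : g ∈ conjN x N a)
    (hh : h ∈ conjN x N a) : g * h = h * g := by
  obtain ⟨k, hk⟩ := exists_smul_eq G x a
  rw [mem_conjN hNn hk] at hg hh
  have := hab _ hg _ hh
  calc g * h = k * ((k⁻¹ * g * k) * (k⁻¹ * h * k)) * k⁻¹ := by group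
    _ = h * g := by rw [this]; group

/-- Two conjugates of an abelian normal subgroup of a point stabiliser meet trivially. -/
theorem conjN_disjoint (h2 : IsMultiplyPretransitive G X 2) (hNle : N ≤ stabilizer G x)
    (hNn : ∀ g ∈ stabilizer G x, ∀ n ∈ N, g * n * g⁻¹ ∈ N)
    (hab : ∀ g ∈ N, ∀ h ∈ N, g * h = h * g) {a b : X} (hne : a ≠ b) (g : G)
    (hga : g ∈ conjN x N a) (hgb : g ∈ conjN x N b) : g = 1 := by
  set A := conjN x N
  set D : X → X → Subgroup G := fun c d => A c ⊓ A d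
  have hcard : ∀ {c d e f : X}, c ≠ d → e ≠ f → Nat.card (D c d) ≤ Nat.card (D e f) := by
    intro c d e f hcd hef
    obtain ⟨k, rfl, rfl⟩ := is_two_pretransitive_iff.1 h2 hcd hef
    refine Nat.card_le_card_of_injective
      (fun u : D c d => (⟨k * (u : G) * k⁻¹, conjN_conj hNn k c _ u.2.1,
        conjN_conj hNn k d _ u.2.2⟩ : D (k • c) (k • d))) fun u v huv => ?_
    exact Subtype.ext (mul_left_cancel (mul_right_cancel (congrArg Subtype.val huv)))
  -- the points whose subgroup contains `D c d`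
  have hB : ∀ {c d e f : X}, c ≠ d → e ≠ f → D c d ≤ A e → D c d ≤ A f → D e f = D c d :=
    fun {c d e f} hcd hef he hf =>
      (Subgroup.eq_of_le_of_card_ge (le_inf he hf) (hcard hef hcd)).symm
  have hmove : ∀ {c d z : X} {n : G}, n ∈ A c → D c d ≤ A z → D c d ≤ A (n • z) := by
    intro c d z n hn hz u hu
    have := conjN_conj hNn n z u (hz hu)
    rwa [conjN_comm hNn hab hn hu.1, mul_inv_cancel_right] at this
  refine FaithfulSMul.eq_of_smul_eq_smul (α := X) fun u => ?_
  rw [one_smul]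
  by_contra hne'
  have hua : u ≠ a := fun h => hne' (by rw [h]; exact conjN_le hNle a hga)
  have hub : u ≠ b := fun h => hne' (by rw [h]; exact conjN_le hNle b hgb)
  have hnot : ¬ D a b ≤ A u := fun h => hne' (conjN_le hNle u (h ⟨hga, hgb⟩))
  have h1 : D u (g • u) = D a u :=
    hB hua.symm (Ne.symm hne') inf_le_right (hmove hga inf_le_right)
  have h2' : D u (g • u) = D b u :=
    hB hub.symm (Ne.symm hne') inf_le_right (hmove hgb inf_le_right)
  have h3 : D a u ≤ A b := (h1.symm.trans h2') ▸ inf_le_left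
  refine hnot ?_
  rw [hB hua.symm hne inf_le_left h3]
  exact inf_le_right

/-- The family of the conjugates of `N`. -/
noncomputable def famOfNormal (h2 : IsMultiplyPretransitive G X 2) (hNle : N ≤ stabilizer G x)
    (hNn : ∀ g ∈ stabilizer G x, ∀ n ∈ N, g * n * g⁻¹ ∈ N)
    (hnsr : ∃ n ∈ N, n ≠ 1 ∧ ∃ y : X, y ≠ x ∧ n • y = y)
    (hdisj : ∀ {a b : X}, a ≠ b → ∀ g ∈ conjN x N a, g ∈ conjN x N b → g = 1) : Fam G X where
  N := conjN x N
  le := conjN_le hNle
  conj := conjN_conj hNn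
  two := fun hab hcd => is_two_pretransitive_iff.1 h2 hab hcd
  disj := hdisj
  nsr := by
    intro a b hab
    obtain ⟨n, hn, hn1, y, hyx, hny⟩ := hnsr
    obtain ⟨g, hga, hgb⟩ := is_two_pretransitive_iff.1 h2 hyx.symm hab
    refine ⟨g * n * g⁻¹, ?_, fun h => hn1 (conj_eq_one_iff.1 h), ?_⟩
    · rw [← hga]
      exact conjN_conj hNn g x n ((conjN_self hNn).2 hn)
    · rw [← hgb, mul_smul, mul_smul, inv_smul_smul, hny]

end Cfsg.Agent.ONanTI
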