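import Cfsg.Agent.Lib.ONanTI.Lines

/-!
# The geometry when every element at a point fixes every line through the point

Lines have one point more than an orbit of the subgroup at a point, and the fixed set of every
non-identity element at a point is a hyperplane.
-/

set_option autoImplicit false
set_option linter.unusedSectionVars false

namespace Cfsg.Agent.ONanTI

open MulAction
open scoped Classical

variable {G X : Type*} [Group G] [MulAction G X] [Finite G] [Finite X] [FaithfulSMul G X]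

namespace Fam

variable (F : Fam G X)

/-- Every element at `a` maps every line through `a` to itself. -/
def FixLines : Prop := ∀ {a b : X}, a ≠ b → ∀ n ∈ F.N a, n • b ∈ F.line a b

variable {F}

theorem ne_smul {a b : X} (hab : a ≠ b) {n : G} (hn : n ∈ F.N a) : a ≠ n • b := fun h =>
  hab (smul_left_cancel n ((F.fix hn).trans h))

theorem FixLines.fix_line (hF : F.FixLines) {a c d q : X} (hcd : c ≠ d) {n : G} (hn : n ∈ F.N a)
    (hc : n • c = c) (hd : n • d = d) (hq : q ∈ F.line c d) : n • q = q := by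
  by_contra hne
  have haq : a ≠ q := fun h => hne (h ▸ F.fix hn)
  have h1 : n • q ∈ F.line c d := by
    have := F.smul_mem_line n hq
    rwa [hc, hd] at this
  have h2 := F.line_eq_of_mem hcd haq (Ne.symm hne) hq h1 (F.right_mem_line a q) (hF haq n hn)
  have ha : a ∈ F.line c d := h2 ▸ F.left_mem_line a q
  have key : ∀ e, e ∈ F.line c d → n • e = e → a ≠ e → False := by
    intro e he hne' hae
    rw [← F.line_eq hcd hae ha he] at hq
    exact hne (hq n ⟨hn, hne'⟩)
  rcases eq_or_ne a c with rfl | hac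
  · exact key d (F.right_mem_line _ _) hd hcd
  · exact key c (F.left_mem_line _ _) hc hac

variable (F)

/-- The orbit of `b` under the subgroup at `a`. -/
def O (a b : X) : Set X := orbit (F.N a) b

theorem smul_O_subset (g : G) (a b : X) : (g • ·) '' F.O a b ⊆ F.O (g • a) (g • b) := by
  rintro _ ⟨_, ⟨⟨n, hn⟩, rfl⟩, rfl⟩
  refine ⟨⟨g * n * g⁻¹, F.conj g a n hn⟩, ?_⟩
  simp [Subgroup.smul_def, mul_smul]

theorem ncard_O_le (g : G) (a b : X) : (F.O a b).ncard ≤ (F.O (g • a) (g • b)).ncard := by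
  rw [← Set.ncard_image_of_injective _ (MulAction.injective g)]
  exact Set.ncard_le_ncard (F.smul_O_subset g a b) (Set.toFinite _)

theorem ncard_O {a b c d : X} (h : a ≠ b) (h' : c ≠ d) : (F.O a b).ncard = (F.O c d).ncard := by
  obtain ⟨g, rfl, rfl⟩ := F.two h h'
  exact (F.ncard_O_le g a b).antisymm (by simpa using F.ncard_O_le g⁻¹ (g • a) (g • b))

theorem two_le_ncard_O {a b : X} (hab : a ≠ b) : 2 ≤ (F.O a b).ncard := by
  obtain ⟨n, hn, hn1, -⟩ := F.nsr hab
  obtain ⟨z, hz⟩ : ∃ z, n • z ≠ z := by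
    by_contra h
    push Not at h
    exact hn1 (FaithfulSMul.eq_of_smul_eq_smul (α := X) fun z => by rw [h z, one_smul])
  have haz : a ≠ z := fun h => hz (h ▸ F.fix hn)
  rw [F.ncard_O hab haz]
  exact (Set.one_lt_ncard (Set.toFinite _)).2
    ⟨n • z, mem_orbit z (⟨n, hn⟩ : F.N a), z, mem_orbit_self _, hz⟩

theorem card_N_eq {a b : X} :
    (F.O a b).ncard * Nat.card (F.W a b) = Nat.card (F.N a) := by
  rw [← (stabilizer (F.N a) b).index_mul_card, index_stabilizer, O]
  congr 1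
  exact Nat.card_congr
    { toFun := fun g => ⟨⟨g.1, g.2.1⟩, g.2.2⟩
      invFun := fun g => ⟨g.1.1, g.1.2, g.2⟩
      left_inv := fun _ => rfl
      right_inv := fun _ => rfl }

variable {F}

theorem O_subset_line (hF : F.FixLines) {a b : X} (hab : a ≠ b) :
    F.O a b ⊆ F.line a b \ {a} := by
  rintro _ ⟨⟨n, hn⟩, rfl⟩
  exact ⟨hF hab n hn, (ne_smul hab hn).symm⟩

/-- Off the line through `a` and `b` the subgroup at `a` fixing `b` is transitive on orbits. -/
theorem FixLines.exists_W_smul (hF : F.FixLines) {a b u : X} (hab : a ≠ b)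
    (hu : u ∉ F.line a b) {n : G} (hn : n ∈ F.N a) : ∃ g ∈ F.W a b, g • u = n • u := by
  obtain ⟨t, ht, htu⟩ : ∃ t ∈ F.W b a, t • u ≠ u := by
    by_contra h
    push Not at h
    exact hu (F.line_comm hab ▸ h)
  have hfix : ∀ q ∈ F.line a b, t • q = q := fun q hq => (F.line_comm hab ▸ hq) t ht
  have hau : a ≠ u := fun h => hu (h ▸ F.left_mem_line a b)
  set u₀ := t⁻¹ • u
  have htu₀ : t • u₀ = u := smul_inv_smul t u
  have hu₀ : t • u₀ ≠ u₀ := fun h => htu <| by
    rw [htu₀] at h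
    have := htu₀
    rwa [← h] at this
  have hu₀' : u₀ ∉ F.line a b := fun h => hu₀ (hfix _ h)
  have hau₀ : a ≠ u₀ := fun h => hu₀' (h ▸ F.left_mem_line a b)
  have key : ∀ n ∈ F.N a, (n * t * n⁻¹ * t⁻¹) ∈ F.W a b ∧ (n * t * n⁻¹) • u₀ ≠ u₀ := by
    intro n hn
    refine ⟨⟨?_, ?_⟩, ?_⟩
    · rw [show n * t * n⁻¹ * t⁻¹ = n * (t * n⁻¹ * t⁻¹) by group]
      exact mul_mem hn (F.conj_mem_of_fix ht.2 (inv_mem hn))
    · show (n * t * n⁻¹ * t⁻¹) • b = b
      rw [mul_smul, inv_smul_eq_iff.2 (F.fix ht.1).symm, mul_smul, mul_smul,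
        hfix _ (hF hab n⁻¹ (inv_mem hn)), smul_inv_smul]
    · intro h
      rw [mul_smul, mul_smul, smul_eq_iff_eq_inv_smul] at h
      have hne := ne_smul hau₀ (inv_mem hn)
      refine hu₀ (hF.fix_line hne ht.1 ht.2 h ?_)
      rw [F.line_eq_left hau₀ hne (hF hau₀ _ (inv_mem hn))]
      exact F.right_mem_line _ _
  let f : F.O a b → orbit (F.W a b) u := fun z =>
    ⟨((z.2.choose : G) * t * (z.2.choose : G)⁻¹) • u₀,
      ⟨⟨(z.2.choose : G) * t * (z.2.choose : G)⁻¹ * t⁻¹, (key _ z.2.choose.2).1⟩, by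
        show ((z.2.choose : G) * t * (z.2.choose : G)⁻¹ * t⁻¹) • u = _
        rw [mul_smul]⟩⟩
  have hinj : Function.Injective f := by
    intro z₁ z₂ he
    by_contra hne
    set n₁ := z₁.2.choose
    set n₂ := z₂.2.choose
    have h1 : (n₁ : G) • b = z₁.1 := z₁.2.choose_spec
    have h2 : (n₂ : G) • b = z₂.1 := z₂.2.choose_spec
    have hb : (n₁ : G) • b ≠ (n₂ : G) • b := fun h => hne (Subtype.ext (h1 ▸ h2 ▸ h))
    have he' : ((n₁ : G) * t * (n₁ : G)⁻¹) • u₀ = ((n₂ : G) * t * (n₂ : G)⁻¹) • u₀ :=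
      congrArg Subtype.val he
    have hl1 := hF hab _ n₁.2
    have hl2 := hF hab _ n₂.2
    have hn1 : (n₁ : G) • b ≠ u₀ := fun h => hu₀' (h ▸ hl1)
    have hn2 : (n₂ : G) • b ≠ u₀ := fun h => hu₀' (h ▸ hl2)
    have hp := hF hn2 _ (F.conj (n₂ : G) b t ht.1)
    rw [← he'] at hp
    have hlines := F.line_eq_of_mem hn1 hn2 (key _ n₁.2).2
      (hF hn1 _ (F.conj (n₁ : G) b t ht.1)) (F.right_mem_line _ _) hp (F.right_mem_line _ _)
    have h3 := F.line_eq hn1 hb (F.left_mem_line _ _) (hlines ▸ F.left_mem_line _ _)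
    have h4 := F.line_eq hab hb hl1 hl2
    exact hu₀' (h4 ▸ h3.symm ▸ F.right_mem_line _ _)
  have hle : (F.O a u).ncard ≤ (orbit (F.W a b) u).ncard := by
    rw [F.ncard_O hau hab, ← Nat.card_coe_set_eq, ← Nat.card_coe_set_eq]
    exact Nat.card_le_card_of_injective f hinj
  have hsub : orbit (F.W a b) u ⊆ F.O a u := by
    rintro _ ⟨⟨g, hg⟩, rfl⟩
    exact ⟨⟨g, hg.1⟩, rfl⟩
  obtain ⟨⟨g, hg⟩, hgu⟩ : n • u ∈ orbit (F.W a b) u := by
    rw [Set.eq_of_subset_of_ncard_le hsub hle (Set.toFinite _)]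
    exact ⟨⟨n, hn⟩, rfl⟩
  exact ⟨g, hg, hgu⟩

/-- The elements at `a` fixing two points `b`, `u` have index an orbit length in those fixing
one. -/
theorem FixLines.card_W_inf (hF : F.FixLines) {a b u : X} (hab : a ≠ b) (hu : u ∉ F.line a b) :
    (F.O a b).ncard * Nat.card ↥(F.W a b ⊓ F.W a u) = Nat.card (F.W a b) := by
  have hau : a ≠ u := fun h => hu (h ▸ F.left_mem_line a b)
  have horb : orbit (F.W a b) u = F.O a u := by
    refine Set.Subset.antisymm ?_ ?_
    · rintro _ ⟨⟨g, hg⟩, rfl⟩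
      exact ⟨⟨g, hg.1⟩, rfl⟩
    · rintro _ ⟨⟨n, hn⟩, rfl⟩
      obtain ⟨g, hg, hgu⟩ := hF.exists_W_smul hab hu hn
      exact ⟨⟨g, hg⟩, hgu⟩
  rw [F.ncard_O hab hau, ← horb, ← (stabilizer (F.W a b) u).index_mul_card, index_stabilizer]
  congr 1
  exact Nat.card_congr
    { toFun := fun g => ⟨⟨g.1, g.2.1⟩, g.2.2.2⟩
      invFun := fun g => ⟨g.1.1, g.1.2, g.1.2.1, g.2⟩
      left_inv := fun _ => rfl
      right_inv := fun _ => rfl }

variable (F)

theorem ncard_line {a b c d : X} (h : a ≠ b) (h' : c ≠ d) :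
    (F.line a b).ncard = (F.line c d).ncard := by
  obtain ⟨g, rfl, rfl⟩ := F.two h h'
  have : F.line (g • a) (g • b) = (g • ·) '' F.line a b := by
    ext u
    exact ⟨fun hu => ⟨_, F.mem_smul_line g hu, smul_inv_smul g u⟩,
      fun ⟨w, hw, he⟩ => he ▸ F.smul_mem_line g hw⟩
  rw [this, Set.ncard_image_of_injective _ (MulAction.injective g)]

theorem exists_line_not_mem {a : X} {b : X} (hab : a ≠ b) :
    ∃ u, b ≠ u ∧ a ∉ F.line b u := by
  obtain ⟨u, hu⟩ := F.exists_not_mem_line hab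
  have hbu : b ≠ u := fun h => hu (h ▸ F.right_mem_line a b)
  refine ⟨u, hbu, fun ha => hu ?_⟩
  rw [F.line_eq hbu hab ha (F.left_mem_line _ _)]
  exact F.right_mem_line _ _

variable {F}

/-- The spread argument: a line off `a` has at most `m + 1` points, and in that case each
element at `a` fixes one of them. -/
theorem FixLines.spread (hF : F.FixLines) {a b u : X} (hbu : b ≠ u) (ha : a ∉ F.line b u) :
    (F.line b u).ncard ≤ (F.O a b).ncard + 1 ∧
      ((F.line b u).ncard = (F.O a b).ncard + 1 →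
        ∀ n ∈ F.N a, ∃ q ∈ F.line b u, n • q = q) := by
  let _ := Fintype.ofFinite G
  let _ := Fintype.ofFinite X
  set L := F.line b u
  set I := F.W a b ⊓ F.W a u
  set m := (F.O a b).ncard
  have hab : a ≠ b := fun h => ha (h ▸ F.left_mem_line b u)
  have hne : ∀ q ∈ L, a ≠ q := fun q hq h => ha (h ▸ hq)
  have hoff : ∀ q ∈ L, ∀ q' ∈ L, q ≠ q' → q' ∉ F.line a q := by
    intro q hq q' hq' hqq h
    refine ha ?_
    rw [show L = F.line a q from F.line_eq_of_mem hbu (hne q hq) hqq hq hq' (F.right_mem_line _ _) h]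
    exact F.left_mem_line _ _
  have hI : ∀ g, g ∈ I → ∀ q ∈ L, g • q = q := fun g hg q hq =>
    hF.fix_line hbu hg.1.1 hg.1.2 hg.2.2 hq
  have hII : ∀ q ∈ L, ∀ q' ∈ L, q ≠ q' → F.W a q ⊓ F.W a q' = I := by
    intro q hq q' hq' hqq
    refine le_antisymm (fun g hg => ?_) (fun g hg => ?_)
    · have h := F.line_eq hbu hqq hq hq'
      exact ⟨⟨hg.1.1, hF.fix_line hqq hg.1.1 hg.1.2 hg.2.2 (h ▸ F.left_mem_line _ _)⟩,
        hg.1.1, hF.fix_line hqq hg.1.1 hg.1.2 hg.2.2 (h ▸ F.right_mem_line _ _)⟩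
    · exact ⟨⟨hg.1.1, hI g hg q hq⟩, hg.1.1, hI g hg q' hq'⟩
  have hu_ab : u ∉ F.line a b := hoff b (F.left_mem_line _ _) u (F.right_mem_line _ _) hbu
  have hw : m * Nat.card I = Nat.card (F.W a b) := hF.card_W_inf hab hu_ab
  have hN : m * Nat.card (F.W a b) = Nat.card (F.N a) := F.card_N_eq
  have hcard : ∀ q ∈ L, ((F.W a q : Set G) \ I).ncard = (m - 1) * Nat.card I := by
    intro q hq
    have hle : (I : Set G) ⊆ F.W a q := fun g hg => ⟨hg.1.1, hI g hg q hq⟩
    rw [Set.ncard_diff hle, ← Nat.card_coe_set_eq, ← Nat.card_coe_set_eq, Nat.sub_mul, one_mul, hw]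
    exact congrArg (· - _) (F.card_W (hne q hq) hab)
  have hdisj : ∀ q ∈ L.toFinset, ∀ q' ∈ L.toFinset, q ≠ q' →
      Disjoint ((F.W a q : Set G) \ I).toFinset ((F.W a q' : Set G) \ I).toFinset := by
    intro q hq q' hq' hqq
    rw [Finset.disjoint_left]
    intro g h1 h2
    simp only [Set.mem_toFinset] at h1 h2 hq hq'
    exact h1.2 (hII q hq q' hq' hqq ▸ ⟨h1.1, h2.1⟩)
  have hsum : (L.toFinset.biUnion fun q => ((F.W a q : Set G) \ I).toFinset).card =
      L.ncard * ((m - 1) * Nat.card I) := by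
    rw [Finset.card_biUnion hdisj, Finset.sum_const_nat (m := (m - 1) * Nat.card I) fun q hq => ?_,
      ← Set.ncard_eq_toFinset_card']
    rw [← Set.ncard_eq_toFinset_card']
    exact hcard q (Set.mem_toFinset.1 hq)
  have hsub : (L.toFinset.biUnion fun q => ((F.W a q : Set G) \ I).toFinset) ⊆
      ((F.N a : Set G) \ I).toFinset := by
    intro g
    simp only [Finset.mem_biUnion, Set.mem_toFinset]
    rintro ⟨q, -, hg⟩
    exact ⟨hg.1.1, hg.2⟩
  have htot : ((F.N a : Set G) \ I).toFinset.card = (m * m - 1) * Nat.card I := by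
    have hle : (I : Set G) ⊆ F.N a := fun g hg => hg.1.1
    rw [← Set.ncard_eq_toFinset_card', Set.ncard_diff hle, ← Nat.card_coe_set_eq,
      ← Nat.card_coe_set_eq, Nat.sub_mul, one_mul, mul_assoc, hw, hN]
    rfl
  have hm : 2 ≤ m := F.two_le_ncard_O hab
  have hi : 0 < Nat.card I := Nat.card_pos
  have hsq : (m + 1) * (m - 1) = m * m - 1 := by
    obtain ⟨k, hk⟩ : ∃ k, m = k + 1 := ⟨m - 1, by omega⟩
    rw [hk, Nat.add_sub_cancel]
    rw [show (k + 1) * (k + 1) = (k + 1 + 1) * k + 1 by ring, Nat.add_sub_cancel]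
  refine ⟨?_, fun heq n hn => ?_⟩
  · have h := Finset.card_le_card hsub
    rw [hsum, htot, ← hsq, ← mul_assoc] at h
    exact Nat.le_of_mul_le_mul_right (Nat.le_of_mul_le_mul_right h hi) (by omega)
  · by_cases hnI : n ∈ I
    · exact ⟨b, F.left_mem_line _ _, hnI.1.2⟩
    · have he := Finset.eq_of_subset_of_card_le hsub (by rw [hsum, htot, ← hsq, heq, mul_assoc])
      have : n ∈ ((F.N a : Set G) \ I).toFinset := Set.mem_toFinset.2 ⟨hn, hnI⟩
      rw [← he] at this
      simp only [Finset.mem_biUnion, Set.mem_toFinset] at this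
      obtain ⟨q, hq, hg⟩ := this
      exact ⟨q, hq, hg.1.2⟩

theorem FixLines.card_line (hF : F.FixLines) {a b : X} (hab : a ≠ b) :
    (F.line a b).ncard = (F.O a b).ncard + 1 := by
  obtain ⟨u, hbu, ha⟩ := F.exists_line_not_mem hab
  refine le_antisymm (by rw [F.ncard_line hab hbu]; exact (hF.spread hbu ha).1) ?_
  have h := Set.ncard_le_ncard (O_subset_line hF hab) (Set.toFinite _)
  rw [Set.ncard_diff_singleton_of_mem (F.left_mem_line a b)] at h
  have := F.two_le_ncard_O hab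
  omega

/-- Every line meets the fixed set of every element at a point. -/
theorem FixLines.exists_fixed (hF : F.FixLines) {a c d : X} (hcd : c ≠ d) {n : G}
    (hn : n ∈ F.N a) : ∃ q ∈ F.line c d, n • q = q := by
  by_cases ha : a ∈ F.line c d
  · exact ⟨a, ha, F.fix hn⟩
  · refine (hF.spread hcd ha).2 ?_ n hn
    have hac : a ≠ c := fun h => ha (h ▸ F.left_mem_line c d)
    rw [hF.card_line hcd, F.ncard_O hcd hac]

end Fam

end Cfsg.Agent.ONanTI
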