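import Mathlib.GroupTheory.GroupAction.MultipleTransitivity
import Mathlib.GroupTheory.GroupAction.Quotient
import Mathlib.Algebra.Group.Subgroup.Finite
import Mathlib.Data.Set.Card

/-!
# The lines of a trivial-intersection family of normal subgroups of point stabilisers

`Fam G X` attaches to every point `a` of a 2-transitive group a subgroup `N a` fixing `a`,
equivariantly; any two of them meet trivially and each contains non-identity elements fixing a
second point.  The line through `a` and `b` is the fixed set of `N a ⊓ stabilizer b`; it is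
symmetric in `a` and `b`.
-/

set_option autoImplicit false
set_option linter.unusedSectionVars false

namespace Cfsg.Agent.ONanTI

open MulAction

/-- A conjugation-invariant family of subgroups, one fixing each point. -/
structure Fam (G X : Type*) [Group G] [MulAction G X] where
  /-- The subgroup attached to a point. -/
  N : X → Subgroup G
  le : ∀ a, N a ≤ stabilizer G a
  conj : ∀ (g : G) (a : X) (h : G), h ∈ N a → g * h * g⁻¹ ∈ N (g • a)
  two : ∀ {a b c d : X}, a ≠ b → c ≠ d → ∃ g : G, g • a = c ∧ g • b = d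
  disj : ∀ {a b : X}, a ≠ b → ∀ g ∈ N a, g ∈ N b → g = 1
  nsr : ∀ {a b : X}, a ≠ b → ∃ n ∈ N a, n ≠ 1 ∧ n • b = b

variable {G X : Type*} [Group G] [MulAction G X] [Finite G] [Finite X] [FaithfulSMul G X]

namespace Fam

variable (F : Fam G X)

theorem fix {a : X} {g : G} (hg : g ∈ F.N a) : g • a = a := F.le a hg

theorem conj_iff (g : G) (a : X) (h : G) : g * h * g⁻¹ ∈ F.N (g • a) ↔ h ∈ F.N a := by
  refine ⟨fun hh => ?_, F.conj g a h⟩
  have h2 := F.conj g⁻¹ (g • a) _ hh
  rwa [inv_smul_smul, inv_inv, show g⁻¹ * (g * h * g⁻¹) * g = h by group] at h2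

theorem conj_mem_of_fix {g : G} {a : X} (hg : g • a = a) {h : G} (hh : h ∈ F.N a) :
    g * h * g⁻¹ ∈ F.N a := by
  simpa [hg] using F.conj g a h hh

/-- The elements at `a` fixing `b`. -/
def W (a b : X) : Subgroup G := F.N a ⊓ stabilizer G b

theorem mem_W {a b : X} {g : G} : g ∈ F.W a b ↔ g ∈ F.N a ∧ g • b = b := Iff.rfl

/-- Conjugation carries `W a b` to `W (g • a) (g • b)`. -/
def wEquiv (g : G) (a b : X) : F.W a b ≃ F.W (g • a) (g • b) :=
  (MulAut.conj g).toEquiv.subtypeEquiv fun h => by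
    show h ∈ F.W a b ↔ g * h * g⁻¹ ∈ F.W (g • a) (g • b)
    rw [mem_W, mem_W, F.conj_iff, mul_smul, mul_smul, inv_smul_smul, smul_left_cancel_iff]

theorem card_W {a b c d : X} (h : a ≠ b) (h' : c ≠ d) :
    Nat.card (F.W a b) = Nat.card (F.W c d) := by
  obtain ⟨g, rfl, rfl⟩ := F.two h h'
  exact Nat.card_congr (F.wEquiv g a b)

theorem commute_W {a b : X} (hab : a ≠ b) {h k : G} (hh : h ∈ F.W a b) (hk : k ∈ F.W b a) :
    h * k = k * h := by
  have h1 : h * (k * h⁻¹ * k⁻¹) ∈ F.N a :=
    mul_mem hh.1 (F.conj_mem_of_fix hk.2 (inv_mem hh.1))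
  have h2 : (h * k * h⁻¹) * k⁻¹ ∈ F.N b :=
    mul_mem (F.conj_mem_of_fix hh.2 hk.1) (inv_mem hk.1)
  have h3 := F.disj hab _ h1 (by rwa [show h * (k * h⁻¹ * k⁻¹) = (h * k * h⁻¹) * k⁻¹ by group])
  calc h * k = (h * (k * h⁻¹ * k⁻¹)) * (k * h) := by group
    _ = k * h := by rw [h3, one_mul]

/-- An element at `a` commuting with a non-identity element at `b` fixes `b`. -/
theorem fix_of_commute {a b : X} {n t : G} (ht : t ∈ F.N b) (ht1 : t ≠ 1)
    (hc : t * n * t⁻¹ = n) (hn : n ∈ F.N a) : n • b = b := by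
  by_contra hne
  refine ht1 (F.disj hne t ?_ ht)
  have h1 := F.conj n b t ht
  have h2 : n * t * n⁻¹ = t := by
    calc n * t * n⁻¹ = (t * n * t⁻¹) * t * n⁻¹ := by rw [hc]
      _ = t := by group
  rwa [h2] at h1

/-- The counting lemma behind the symmetry of lines. -/
theorem W_eq_of_fix {a b u : X} (hab : a ≠ b) (hau : a ≠ u)
    (hfix : ∀ t ∈ F.W b a, t • u = u) : F.W a u = F.W a b := by
  have hle : F.W a u ≤ F.W a b := by
    intro v hv
    refine ⟨hv.1, ?_⟩
    by_contra hvb
    change ¬ v • b = b at hvb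
    have hmem : ∀ t : F.W b a, (t : G) * v * (t : G)⁻¹ ∈ F.W a u := by
      rintro ⟨t, ht⟩
      refine ⟨F.conj_mem_of_fix ht.2 hv.1, ?_⟩
      show (t * v * t⁻¹) • u = u
      have ht' : t⁻¹ • u = u := inv_smul_eq_iff.2 (hfix t ht).symm
      rw [mul_smul, mul_smul, ht', show v • u = u from hv.2, hfix t ht]
    have hinj : Function.Injective fun t : F.W b a => (⟨_, hmem t⟩ : F.W a u) := by
      intro t s hts
      by_contra hne
      have h1 : (t : G) * v * (t : G)⁻¹ = (s : G) * v * (s : G)⁻¹ := congrArg Subtype.val hts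
      have h2 : ((s⁻¹ * t : F.W b a) : G) ≠ 1 := fun h =>
        hne (inv_mul_eq_one.1 (OneMemClass.coe_eq_one.1 h)).symm
      refine hvb (F.fix_of_commute (s⁻¹ * t : F.W b a).2.1 h2 ?_ hv.1)
      push_cast
      calc (s : G)⁻¹ * t * v * ((s : G)⁻¹ * t)⁻¹
          = (s : G)⁻¹ * ((t : G) * v * (t : G)⁻¹) * s := by group
        _ = v := by rw [h1]; group
    have hsurj := (hinj.bijective_of_nat_card_le (F.card_W hau hab.symm).le).surjective 1
    obtain ⟨t, ht⟩ := hsurj
    have h3 : (t : G) * v * (t : G)⁻¹ = 1 := congrArg Subtype.val ht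
    exact hvb (by rw [conj_eq_one_iff.1 h3, one_smul])
  exact Subgroup.eq_of_le_of_card_ge hle (F.card_W hab hau).le

/-- The line through `a` and `b`. -/
def line (a b : X) : Set X := {u | ∀ g ∈ F.W a b, g • u = u}

theorem left_mem_line (a b : X) : a ∈ F.line a b := fun _ hg => F.fix hg.1

theorem right_mem_line (a b : X) : b ∈ F.line a b := fun _ hg => hg.2

theorem W_eq_of_mem_line {a b u : X} (hab : a ≠ b) (hau : a ≠ u) (hu : u ∈ F.line a b) :
    F.W a u = F.W a b :=
  have hle : F.W a b ≤ F.W a u := fun g hg => ⟨hg.1, hu g hg⟩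
  (Subgroup.eq_of_le_of_card_ge hle (F.card_W hau hab).le).symm

theorem line_subset_comm {a b : X} (hab : a ≠ b) : F.line b a ⊆ F.line a b := by
  intro u hu
  rcases eq_or_ne a u with rfl | hau
  · exact F.left_mem_line _ _
  · intro g hg
    rw [← F.W_eq_of_fix hab hau fun t ht => hu t ht] at hg
    exact hg.2

theorem line_comm {a b : X} (hab : a ≠ b) : F.line a b = F.line b a :=
  (F.line_subset_comm hab.symm).antisymm (F.line_subset_comm hab)

theorem line_eq_left {a b u : X} (hab : a ≠ b) (hau : a ≠ u) (hu : u ∈ F.line a b) :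
    F.line a u = F.line a b := by
  rw [line, F.W_eq_of_mem_line hab hau hu]
  rfl

/-- Two points lie on only one line. -/
theorem line_eq {a b c d : X} (hab : a ≠ b) (hcd : c ≠ d) (hc : c ∈ F.line a b)
    (hd : d ∈ F.line a b) : F.line c d = F.line a b := by
  rcases eq_or_ne a c with rfl | hac
  · exact F.line_eq_left hab hcd hd
  · have h1 : F.line c a = F.line a b := by
      rw [← F.line_comm hac, F.line_eq_left hab hac hc]
    rw [F.line_eq_left hac.symm hcd (h1 ▸ hd), h1]

/-- The line of two points of a line equals that line. -/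
theorem line_eq_of_mem {a b c d p q : X} (hab : a ≠ b) (hcd : c ≠ d) (hpq : p ≠ q)
    (h1 : p ∈ F.line a b) (h2 : q ∈ F.line a b) (h3 : p ∈ F.line c d) (h4 : q ∈ F.line c d) :
    F.line a b = F.line c d :=
  (F.line_eq hab hpq h1 h2).symm.trans (F.line_eq hcd hpq h3 h4)

theorem smul_mem_line {a b u : X} (g : G) (hu : u ∈ F.line a b) :
    g • u ∈ F.line (g • a) (g • b) := by
  intro h hh
  obtain ⟨⟨k, hk⟩, hkh⟩ := (F.wEquiv g a b).surjective ⟨h, hh⟩
  have he : g * k * g⁻¹ = h := congrArg Subtype.val hkh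
  rw [← he, mul_smul, mul_smul, inv_smul_smul, hu k hk]

theorem mem_smul_line {a b u : X} (g : G) (hu : u ∈ F.line (g • a) (g • b)) :
    g⁻¹ • u ∈ F.line a b := by
  simpa using F.smul_mem_line g⁻¹ hu

theorem exists_not_mem_line {a b : X} (hab : a ≠ b) : ∃ u, u ∉ F.line a b := by
  obtain ⟨n, hn, hn1, hnb⟩ := F.nsr hab
  by_contra h
  push Not at h
  refine hn1 (FaithfulSMul.eq_of_smul_eq_smul (α := X) fun z => ?_)
  rw [h z n ⟨hn, hnb⟩, one_smul]

end Fam

end Cfsg.Agent.ONanTI
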